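import Cfsg.Agent.Lib.RelDegrees87.Main
import Cfsg.Agent.Lib.Characters.Kernel
import Cfsg.Agent.Lib.DegreeBounds.Basic

/-!
# Determinants, orbits and residuals for the relative degree graph
-/

set_option autoImplicit false
set_option linter.unusedSectionVars false

namespace Cfsg.Agent.Lib.RelDegrees78.Basic

open Cfsg.Agent.Lib.Characters.Basic Cfsg.Agent.Lib.RelDegrees87.Basic
open Cfsg.Agent.Lib.Clifford.Basic Cfsg.Agent.Lib.BlocksChars5
open Cfsg.Agent.Lib.RelDegrees87

universe u

noncomputable local instance (priority := high) homOne {N : Type*} [Group N] : One (N →* ℂˣ) :=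
  (MonoidHom.instCommGroup (M := N) (N := ℂˣ)).toGroup.toDivInvMonoid.toMonoid.toMulOneClass.toMulOne.toOne
noncomputable local instance (priority := high) homMul {N : Type*} [Group N] : Mul (N →* ℂˣ) :=
  (MonoidHom.instCommGroup (M := N) (N := ℂˣ)).toGroup.toDivInvMonoid.toMonoid.toMulOneClass.toMulOne.toMul
noncomputable local instance (priority := high) homPow {N : Type*} [Group N] : Pow (N →* ℂˣ) ℕ :=
  (MonoidHom.instCommGroup (M := N) (N := ℂˣ)).toGroup.toDivInvMonoid.toMonoid.toNPow.toPow
noncomputable local instance (priority := high) homInv {N : Type*} [Group N] : Inv (N →* ℂˣ) :=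
  (MonoidHom.instCommGroup (M := N) (N := ℂˣ)).toGroup.toDivInvMonoid.toInv

variable {G : Type u} [Group G] [Finite G] [Fintype G] (N : Subgroup G) [hN : N.Normal] [Fintype N]

theorem orderOf_dvd_index (c : N →* ℂˣ) : orderOf c ∣ (commutator N).index := by
  haveI : Finite (N →* ℂˣ) :=
    Finite.of_injective (lin N) fun x y h => L_injective N (congrArg Subtype.val h)
  have h := orderOf_dvd_natCard c
  rwa [Nat.card_congr (Cfsg.Agent.Lib.Characters.Linear.linEquiv N),
    Cfsg.Agent.Lib.Characters.Linear.card_linear] at h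

/-- A nontrivial linear character has a power of prime order with a larger stabiliser. -/
theorem exists_prime_power {ν : N →* ℂˣ} (hν : ν ≠ 1) :
    ∃ (t : ℕ) (c : N →* ℂˣ), t.Prime ∧ t ∣ (commutator N).index ∧ c ^ t = 1 ∧ c ≠ 1 ∧
      ∀ g, cH N g ν = ν → cH N g c = c := by
  haveI : Finite (N →* ℂˣ) :=
    Finite.of_injective (lin N) fun x y h => L_injective N (congrArg Subtype.val h)
  have ho : orderOf ν ≠ 1 := fun h => hν (orderOf_eq_one_iff.mp h)
  have htd : (orderOf ν).minFac ∣ orderOf ν := Nat.minFac_dvd _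
  have hc : orderOf (ν ^ (orderOf ν / (orderOf ν).minFac)) = (orderOf ν).minFac :=
    orderOf_pow_orderOf_div (orderOf_pos ν).ne' htd
  refine ⟨(orderOf ν).minFac, ν ^ (orderOf ν / (orderOf ν).minFac), Nat.minFac_prime ho,
    htd.trans (orderOf_dvd_index N ν), ?_, fun h => ?_, fun g hg => ?_⟩
  · have := pow_orderOf_eq_one (ν ^ (orderOf ν / (orderOf ν).minFac))
    rwa [hc] at this
  · rw [h, orderOf_one] at hc
    exact (Nat.minFac_prime ho).ne_one hc.symm
  · rw [map_pow, hg]

theorem charDegree_eq {k : ℕ} (ρ : Representation ℂ N (Fin k → ℂ)) {φ : N → ℂ}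
    (h : ρ.character = φ) : Cfsg.charDegree φ = k := by
  simp [Cfsg.charDegree, ← h]

/-- For an irreducible representation with trivial determinant, multiplying by a linear
character of order prime to the degree changes the stabiliser only to the intersection. -/
theorem inertia_mulL_le {φ : Cfsg.IrrCharacter N} {k : ℕ} (ρ : Representation ℂ N (Fin k → ℂ))
    (hρc : ρ.character = (φ : N → ℂ)) (hdet : Clifford.Rep.detHom ρ = 1)
    {c : N →* ℂˣ} {t : ℕ} (hct : c ^ t = 1) (htk : t.Coprime k) {g : G}
    (hg : g ∈ inertia N (mulL N c φ : N → ℂ)) :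
    g ∈ inertia N (φ : N → ℂ) ∧ cH N g c = c := by
  rw [mem_inertia, coe_mulL, conjC_mul_fun, conjC_L] at hg
  set d := cH N g c with hd
  set e := d⁻¹ * c with he
  have hφg : conjC N g (φ : N → ℂ) = L N e * (φ : N → ℂ) := by
    rw [he, Basic.L_mul, mul_assoc, ← hg, ← mul_assoc, ← Basic.L_mul, inv_mul_cancel, L_one,
      one_mul]
  obtain ⟨m, τ, hτ, hτc⟩ := isIrrCharacter_conjC N g φ.2
  haveI := hτ
  let σ : Representation ℂ N (Fin k → ℂ) :=
    { toFun := fun n => (e n : ℂ) • ρ n
      map_one' := by simp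
      map_mul' := fun a b => by simp [smul_smul, mul_comm] }
  let σ' : Representation ℂ N (Fin k → ℂ) := ρ.comp (MulAut.conjNormal g).toMonoidHom
  have hσ : σ.character = τ.character := funext fun n => by
    show LinearMap.trace ℂ _ ((e n : ℂ) • ρ n) = _
    rw [map_smul, smul_eq_mul, hτc, hφg, Pi.mul_apply, ← hρc]
    rfl
  have hσ' : σ'.character = τ.character := funext fun n => by
    rw [hτc]
    show LinearMap.trace ℂ _ (ρ (MulAut.conjNormal g n)) = _
    rw [conjC_eq_comp, ← hρc]
    rfl
  have he1 : e = 1 := by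
    refine MonoidHom.ext fun n => ?_
    have h1 := Clifford.Rep.det_eq_of_char τ σ hσ n
    have h2 := Clifford.Rep.det_eq_of_char τ σ' hσ' n
    have hdet1 : ∀ m : N, LinearMap.det (ρ m) = 1 := fun m => by
      rw [← Clifford.Rep.detHom_apply, hdet]; rfl
    change LinearMap.det ((e n : ℂ) • ρ n) = _ at h1
    change LinearMap.det (ρ (MulAut.conjNormal g n)) = _ at h2
    rw [LinearMap.det_smul, Module.finrank_fin_fun, hdet1, mul_one] at h1
    rw [hdet1] at h2
    have hk : (e n) ^ k = 1 := Units.ext (by simpa using h1.trans h2.symm)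
    have het : e ^ t = 1 := by
      rw [he]
      refine (mul_pow d⁻¹ c t).trans ?_
      rw [hct, mul_one]
      refine (inv_pow d t).trans ((inv_eq_one (a := d ^ t)).mpr ?_)
      rw [hd, ← map_pow, hct, map_one]
    have ht : (e n) ^ t = 1 := by rw [← MonoidHom.pow_apply, het, MonoidHom.one_apply]
    exact orderOf_eq_one_iff.mp (Nat.eq_one_of_dvd_coprimes htk
      (orderOf_dvd_of_pow_eq_one ht) (orderOf_dvd_of_pow_eq_one hk))
  refine ⟨?_, ?_⟩
  · rw [mem_inertia, hφg, he1, L_one, one_mul]
  · exact inv_mul_eq_one.mp (he.symm.trans he1)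

/-- Two characters of equal prime order `t` with coprime orbit lengths: the product has an orbit
length that is prime to neither, provided `t` does not divide the second length. -/
theorem not_coprime_len_mul {t : ℕ} (ht : t.Prime) {x y : N →* ℂˣ} (hxt : x ^ t = 1)
    (hx : Main.len N x ≠ 1) (hc1 : (Main.len N x).Coprime (Main.len N y))
    (hty : ¬ t ∣ Main.len N y) :
    ¬ (Main.len N (x * y)).Coprime (Main.len N x) := by
  intro hc2
  classical
  haveI : Finite (N →* ℂˣ) :=
    Finite.of_injective (lin N) fun x y h => L_injective N (congrArg Subtype.val h)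
  letI := act N
  have hst : ∀ z : N →* ℂˣ, MulAction.stabilizer G z = inertia N (L N z) := fun z => by
    ext g
    rw [MulAction.mem_stabilizer_iff, ← inv_mem_iff (x := g) (H := inertia N (L N z)), inertia_L]
    rfl
  have hlen : ∀ z : N →* ℂˣ, Main.len N z = (MulAction.orbit G z).ncard := fun z => by
    rw [Main.len, ← hst, MulAction.index_stabilizer]
  have hne0 : ∀ z : N →* ℂˣ, Main.len N z ≠ 0 := fun z => Subgroup.index_ne_zero_of_finite
  have hcount : ∀ z : N →* ℂˣ, (Main.len N x).Coprime (Main.len N z) →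
      (MulAction.stabilizer G x ⊓ MulAction.stabilizer G z).index =
        Main.len N x * Main.len N z := by
    intro z hz
    refine le_antisymm ?_ (Nat.le_of_dvd (Nat.pos_of_ne_zero Subgroup.index_ne_zero_of_finite) ?_)
    · rw [Main.len, Main.len, ← hst, ← hst]
      exact Subgroup.index_inf_le
    · refine hz.mul_dvd_of_dvd_of_dvd ?_ ?_ <;> rw [Main.len, ← hst]
      · exact Subgroup.index_dvd_of_le inf_le_left
      · exact Subgroup.index_dvd_of_le inf_le_right
  have hsame : MulAction.stabilizer G x ⊓ MulAction.stabilizer G (x * y) =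
      MulAction.stabilizer G x ⊓ MulAction.stabilizer G y := by
    ext g
    simp only [Subgroup.mem_inf, MulAction.mem_stabilizer_iff]
    refine and_congr_right fun hg => ?_
    change cH N g⁻¹ x = x at hg
    change cH N g⁻¹ (x * y) = x * y ↔ cH N g⁻¹ y = y
    rw [map_mul, hg, mul_right_inj]
  have hnρ : Main.len N (x * y) = Main.len N y := by
    have h := hcount _ hc2.symm
    rw [hsame, hcount y hc1] at h
    exact (Nat.eq_of_mul_eq_mul_left (Nat.pos_of_ne_zero (hne0 x)) h).symm
  set T := MulAction.stabilizer G x with hT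
  have hTy : (MulAction.orbit T y) = MulAction.orbit G y := by
    refine Set.eq_of_subset_of_ncard_le ?_ (le_of_eq ?_) (Set.toFinite _)
    · rintro z ⟨t, rfl⟩
      exact ⟨(t : G), rfl⟩
    · rw [← MulAction.index_stabilizer T y, ← MulAction.index_stabilizer G y]
      have h1 := hcount y hc1
      rw [← Subgroup.relIndex_mul_index (inf_le_left : T ⊓ _ ≤ T), mul_comm (Main.len N x),
        show T.index = Main.len N x by rw [Main.len, ← hst], inf_comm,
        Subgroup.inf_relIndex_right] at h1
      have h2 := Nat.eq_of_mul_eq_mul_right (Nat.pos_of_ne_zero (hne0 x)) h1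
      rw [hst y, ← Main.len, ← h2, Subgroup.relIndex]
      rfl
  have hO : (fun z => x * z) '' MulAction.orbit G y = MulAction.orbit G (x * y) := by
    refine Set.eq_of_subset_of_ncard_le ?_ (le_of_eq ?_) (Set.toFinite _)
    · rintro w ⟨z, hz, rfl⟩
      rw [← hTy] at hz
      obtain ⟨t, rfl⟩ := hz
      refine ⟨(t : G), ?_⟩
      have ht : cH N (t : G)⁻¹ x = x := t.2
      show cH N (t : G)⁻¹ (x * y) = x * cH N (t : G)⁻¹ y
      rw [map_mul, ht]
    · rw [Set.ncard_image_of_injective _ (mul_right_injective x), ← hlen, ← hlen, hnρ]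
  obtain ⟨g, hg⟩ : ∃ g : G, cH N g x ≠ x := by
    by_contra hcon
    push Not at hcon
    exact hx (Main.index_inertia_of_invariant N fun g => by rw [conjC_L, hcon g])
  set b := x⁻¹ * cH N g x with hb
  have hb1 : b ≠ 1 := fun h => hg (inv_mul_eq_one.mp h).symm
  have hbt : b ^ t = 1 := by
    refine (mul_pow x⁻¹ (cH N g x) t).trans ?_
    rw [← map_pow, hxt, map_one, mul_one]
    exact (inv_pow x t).trans ((inv_eq_one (a := x ^ t)).mpr hxt)
  have hcH : ∀ (h : G) z, cH N h z = h⁻¹ • z := fun h z => by
    show _ = cH N h⁻¹⁻¹ z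
    rw [inv_inv]
  have hstable : ∀ z ∈ MulAction.orbit G y, b * z ∈ MulAction.orbit G y := by
    intro z hz
    have e1 : cH N g (cH N g⁻¹ z) = z := by rw [← cH_mul, inv_mul_cancel, cH_one]
    have hw : cH N g⁻¹ z ∈ MulAction.orbit G y := by
      rwa [hcH, Main.smul_mem_orbit_iff']
    have hxw : x * cH N g⁻¹ z ∈ MulAction.orbit G (x * y) := hO ▸ ⟨_, hw, rfl⟩
    have h2 : cH N g (x * cH N g⁻¹ z) ∈ MulAction.orbit G (x * y) := by
      rwa [hcH, Main.smul_mem_orbit_iff']
    rw [map_mul, e1, ← hO] at h2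
    obtain ⟨w, hw', hwe⟩ := h2
    have : w = b * z := by
      rw [hb, mul_assoc, ← hwe]
      exact (inv_mul_cancel_left x w).symm
    rwa [← this]
  have hpow : ∀ k : ℕ, ∀ z ∈ MulAction.orbit G y, b ^ k * z ∈ MulAction.orbit G y := by
    intro k
    induction k with
    | zero => intro z hz; rwa [pow_zero b, one_mul]
    | succ k ih =>
      intro z hz
      rw [pow_succ b k, mul_assoc]
      exact ih _ (hstable z hz)
  haveI := Fact.mk ht
  have hcard : Nat.card (Subgroup.zpowers b) = t := by
    rw [Nat.card_zpowers]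
    exact orderOf_eq_prime hbt hb1
  have hpre : MulAction.orbit G y =
      QuotientGroup.mk ⁻¹' ((QuotientGroup.mk : (N →* ℂˣ) → _ ⧸ Subgroup.zpowers b) ''
        MulAction.orbit G y) := by
    refine Set.Subset.antisymm (Set.subset_preimage_image _ _) ?_
    rintro w ⟨z, hz, hzw⟩
    obtain ⟨k, hk⟩ := Submonoid.mem_powers_iff _ _ |>.mp
      ((mem_powers_iff_mem_zpowers).mpr (QuotientGroup.eq.mp hzw))
    have : w = b ^ k * z := by
      rw [hk]
      exact (mul_inv_cancel_left z w).symm.trans (mul_comm z (z⁻¹ * w))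
    rw [this]
    exact hpow k z hz
  apply hty
  rw [hlen, ← Nat.card_coe_set_eq, hpre,
    Nat.card_congr (QuotientGroup.preimageMkEquivSubgroupProdSet _ _), Nat.card_prod, hcard]
  exact dvd_mul_right _ _

/-- Characters of distinct prime orders are powers of their product. -/
theorem stab_mul_le {t t' : ℕ} (htt : t.Coprime t') {c c' : N →* ℂˣ} (hc : c ^ t = 1)
    (hc' : c' ^ t' = 1) {g : G} (hg : cH N g (c * c') = c * c') :
    cH N g c = c ∧ cH N g c' = c' := by
  have key : ∀ (a b : ℕ) (x y : N →* ℂˣ), a.Coprime b → x ^ a = 1 → y ^ b = 1 →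
      cH N g (x * y) = x * y → cH N g x = x := by
    intro a b x y hab hx hy hxy
    have h1 : cH N g (x ^ b) = x ^ b := by
      have h := congrArg (fun z => z ^ b) hxy
      simp only [← map_pow, mul_pow x y b, hy, mul_one] at h
      exact h
    set X := cH N g x * x⁻¹
    have hXa : X ^ a = 1 := by
      refine (mul_pow (cH N g x) x⁻¹ a).trans ?_
      rw [← map_pow, hx, map_one, one_mul]
      exact (inv_pow x a).trans ((inv_eq_one (a := x ^ a)).mpr hx)
    have hXb : X ^ b = 1 := by
      refine (mul_pow (cH N g x) x⁻¹ b).trans ?_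
      rw [← map_pow, h1]
      exact (congrArg (x ^ b * ·) (inv_pow x b)).trans (mul_inv_cancel (x ^ b))
    exact mul_inv_eq_one.mp (orderOf_eq_one_iff.mp (Nat.eq_one_of_dvd_coprimes hab
      (orderOf_dvd_of_pow_eq_one hXa) (orderOf_dvd_of_pow_eq_one hXb)))
  exact ⟨key t t' c c' htt hc hc' hg, key t' t c' c htt.symm hc' hc (by rwa [mul_comm c' c])⟩

end Cfsg.Agent.Lib.RelDegrees78.Basic
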