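import Cfsg.Agent.Lib.Characters.Kernel
import Cfsg.Agent.Lib.Characters.Linear
import Cfsg.Agent.Lib.DegreeBounds.Basic
import Mathlib.GroupTheory.Nilpotent

/-!
# The nilpotent residual of a normal subgroup
-/

set_option autoImplicit false
set_option linter.unusedSectionVars false

namespace Cfsg.Agent.Lib.RelDegrees78.Residual

open Cfsg.Agent.Lib.Characters.Basic

universe u

/-- Every prime divisor of a finite nilpotent group divides its abelianization. -/
theorem dvd_index_commutator {Q : Type u} [Group Q] [Finite Q] [Group.IsNilpotent Q] {q : ℕ}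
    (hq : q.Prime) (h : q ∣ Nat.card Q) : q ∣ (commutator Q).index := by
  haveI := Fact.mk hq
  have hn : ∀ {p : ℕ} [Fact p.Prime] (P : Sylow p Q), P.Normal := fun {p} {hp} P =>
    (Group.isNilpotent_of_finite_tfae (G := Q).out 0 3 rfl rfl).mp ‹_› p hp P
  let e := (Sylow.directProductOfNormal hn).symm
  have hmem : q ∈ (Nat.card Q).primeFactors :=
    Nat.mem_primeFactors.mpr ⟨hq, h, Nat.card_pos.ne'⟩
  set P : Sylow q Q := default
  let f : Q →* P :=
    { toFun := fun x => e x ⟨q, hmem⟩ P
      map_one' := by simp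
      map_mul' := fun a b => by simp }
  have hf : Function.Surjective f := fun y => by
    classical
    refine ⟨e.symm (Pi.mulSingle ⟨q, hmem⟩ (Pi.mulSingle P y)), ?_⟩
    show e (e.symm _) ⟨q, hmem⟩ P = y
    rw [MulEquiv.apply_symm_apply, Pi.mulSingle_eq_same, Pi.mulSingle_eq_same]
  haveI : Nontrivial P := (Subgroup.nontrivial_iff_ne_bot _).mpr fun hbot => by
    have := P.dvd_card_of_dvd_card h
    rw [Subgroup.card_eq_one.mpr hbot] at this
    exact hq.not_dvd_one this
  haveI : Group.IsNilpotent P := P.isPGroup'.isNilpotent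
  have hlt : commutator P < ⊤ := Group.IsSolvable.commutator_lt_top_of_nontrivial P
  obtain ⟨k, hk⟩ := P.isPGroup'.index (commutator P)
  have hqP : q ∣ (commutator P).index := by
    rw [hk]
    refine dvd_pow_self q fun h0 => hlt.ne (Subgroup.index_eq_one.mp ?_)
    rw [hk, h0, pow_zero]
  refine hqP.trans ?_
  have hsurj : Function.Surjective (Abelianization.map f) := by
    intro y
    induction y using QuotientGroup.induction_on with
    | _ y =>
      obtain ⟨x, rfl⟩ := hf y
      exact ⟨Abelianization.of x, rfl⟩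
  exact Subgroup.card_dvd_of_surjective _ hsurj

variable {G : Type u} [Group G] [Finite G] (N : Subgroup G) [N.Normal]

/-- The nilpotent residual. -/
theorem exists_residual :
    ∃ M : Subgroup G, M.Normal ∧ M ≤ N ∧ ⁅N, M⁆ = M ∧ ∀ _h : (M.subgroupOf N).Normal,
      Group.IsNilpotent (↥N ⧸ M.subgroupOf N) := by
  classical
  let L : ℕ → Subgroup G := fun n => N.lowerCentralSeries n
  have hnormal : ∀ n, (L n).Normal := by
    intro n
    induction n with
    | zero => show N.Normal; infer_instance
    | succ n ih =>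
      haveI := ih
      show (⁅L n, N⁆).Normal
      infer_instance
  have hle : ∀ n, L (n + 1) ≤ L n := fun n => by
    haveI := hnormal n
    exact Subgroup.commutator_le_left (L n) N
  have hleN : ∀ n, L n ≤ N := fun n => by
    induction n with
    | zero => exact le_rfl
    | succ n ih => exact (hle n).trans ih
  obtain ⟨n, hn⟩ : ∃ n, L (n + 1) = L n := by
    have hex : ∃ c, ∃ n, Nat.card (L n) = c := ⟨_, 0, rfl⟩
    obtain ⟨n, hn⟩ := Nat.find_spec hex
    refine ⟨n, Subgroup.eq_of_le_of_card_ge (hle n) ?_⟩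
    rw [hn]
    exact Nat.find_min' hex ⟨n + 1, rfl⟩
  refine ⟨L n, hnormal n, hleN n, ?_, fun h => ?_⟩
  · rw [Subgroup.commutator_comm]
    exact hn
  rw [Subgroup.nilpotent_iff_lowerCentralSeries]
  refine ⟨n, ?_⟩
  rw [← Subgroup.map_top_of_surjective _ (QuotientGroup.mk'_surjective ((L n).subgroupOf N)),
    ← Subgroup.map_lowerCentralSeries, Subgroup.map_eq_bot_iff, QuotientGroup.ker_mk']
  intro x hx
  rw [Subgroup.mem_subgroupOf]
  show (x : G) ∈ N.lowerCentralSeries n
  rw [← Subgroup.top_subtype_lowerCentralSeries]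
  exact Subgroup.mem_map_of_mem _ hx

/-- The degree of a character trivial on a normal subgroup divides the order of the quotient. -/
theorem degree_dvd_of_trivial {H : Type u} [Group H] [Finite H] (K : Subgroup H) [K.Normal]
    (χ : Cfsg.IrrCharacter H) (h : ∀ x ∈ K, (χ : H → ℂ) x = (χ : H → ℂ) 1) :
    Cfsg.charDegree (χ : H → ℂ) ∣ Nat.card (H ⧸ K) := by
  obtain ⟨φ, -, hφ, hirr⟩ :=
    Cfsg.Agent.Lib.Characters.Kernel.exists_descend K (isCharacter_irr χ) h
  have h1 : Cfsg.charDegree (χ : H → ℂ) = Cfsg.charDegree φ := by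
    rw [← hφ]
    simp [Cfsg.charDegree]
  rw [h1]
  exact Cfsg.Agent.Lib.DegreeBounds.Basic.charDegree_dvd ⟨φ, hirr χ.2⟩

end Cfsg.Agent.Lib.RelDegrees78.Residual
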