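import Cfsg.Agent.Lib.RelDegrees78.Basic
import Cfsg.Agent.Lib.RelDegrees78.Residual

/-!
# The disconnected relative degree graph
-/

set_option autoImplicit false
set_option linter.unusedSectionVars false

namespace Cfsg.Agent.Lib.RelDegrees78.Disconnected

open Cfsg.Agent.Lib.Characters.Basic Cfsg.Agent.Lib.RelDegrees87.Basic Cfsg.Agent.Lib.Induced.Basic
open Cfsg.Agent.Lib.Clifford.Basic Cfsg.Agent.Lib.BlocksChars5
open Cfsg.Agent.Lib.RelDegrees87
open scoped commutatorElement

universe u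

noncomputable local instance (priority := high) homOne {N : Type*} [Group N] : One (N →* ℂˣ) :=
  (MonoidHom.instCommGroup (M := N) (N := ℂˣ)).toGroup.toDivInvMonoid.toMonoid.toMulOneClass.toMulOne.toOne
noncomputable local instance (priority := high) homMul {N : Type*} [Group N] : Mul (N →* ℂˣ) :=
  (MonoidHom.instCommGroup (M := N) (N := ℂˣ)).toGroup.toDivInvMonoid.toMonoid.toMulOneClass.toMulOne.toMul
noncomputable local instance (priority := high) homPow {N : Type*} [Group N] : Pow (N →* ℂˣ) ℕ :=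
  (MonoidHom.instCommGroup (M := N) (N := ℂˣ)).toGroup.toDivInvMonoid.toMonoid.toNPow.toPow
noncomputable local instance (priority := high) homInv {N : Type*} [Group N] : Inv (N →* ℂˣ) :=
  (MonoidHom.instCommGroup (M := N) (N := ℂˣ)).toGroup.toDivInvMonoid.toInv

variable {G : Type u} [Group G] [Finite G] [Fintype G] (N : Subgroup G) [hN : N.Normal] [Fintype N]

/-- The graph is disconnected. -/
def Disc : Prop :=
  ¬ ∀ a ∈ Cfsg.relCharDegrees N, ∀ b ∈ Cfsg.relCharDegrees N, Main.Conn N a b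

/-- `a` is a multiple of the orbit length of a character of prime order. -/
def TypeI (a : ℕ) : Prop :=
  ∃ (t : ℕ) (c : N →* ℂˣ), t.Prime ∧ t ∣ (commutator N).index ∧ c ^ t = 1 ∧ c ≠ 1 ∧
    Main.len N c ∣ a

/-- `a` lies over a nonlinear character with trivial determinant. -/
def TypeII (a : ℕ) : Prop :=
  ∃ (χ : Cfsg.IrrCharacter G) (φ : Cfsg.IrrCharacter N) (k : ℕ)
    (ρ : Representation ℂ N (Fin k → ℂ)), Cfsg.charDegree (χ : G → ℂ) = a ∧ Over N χ φ ∧
      ρ.character = (φ : N → ℂ) ∧ Clifford.Rep.detHom ρ = 1 ∧ 1 < k ∧ k ∣ a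

theorem type_cases {a : ℕ} (ha : a ∈ Cfsg.relCharDegrees N) : TypeI N a ∨ TypeII N a := by
  obtain ⟨χ, hχrel, rfl⟩ := id ha
  obtain ⟨φ, hφ, hφ1⟩ := exists_over_not_one N hχrel
  obtain ⟨e, -, -, hd⟩ := degree_eq N hφ
  have hI : ∀ ν : N →* ℂˣ, ν ≠ 1 → (∀ g ∈ inertia N (φ : N → ℂ), cH N g ν = ν) →
      TypeI N (Cfsg.charDegree (χ : G → ℂ)) := by
    intro ν hν hfix
    obtain ⟨t, c, ht, htI, hct, hc1, hstab⟩ := Basic.exists_prime_power N hν
    refine ⟨t, c, ht, htI, hct, hc1, ?_⟩
    rw [hd]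
    refine (Subgroup.index_dvd_of_le fun g hg => ?_).trans
      ((dvd_mul_left _ e).trans (dvd_mul_right _ _))
    exact (inertia_L N c).mpr (hstab g (hfix g hg))
  by_cases hf : Cfsg.charDegree (φ : N → ℂ) = 1
  · obtain ⟨ν, hν⟩ := Main.exists_eq_L N hf
    refine Or.inl (hI ν (fun h => hφ1 (by rw [hν, h, L_one])) fun g hg => ?_)
    rw [hν] at hg
    exact (inertia_L N ν).mp hg
  obtain ⟨k, ρ, hρ, hρc⟩ := φ.2
  haveI := hρ
  have hk : Cfsg.charDegree (φ : N → ℂ) = k := Basic.charDegree_eq N ρ hρc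
  by_cases hdet : Clifford.Rep.detHom ρ = 1
  · refine Or.inr ⟨χ, φ, k, ρ, rfl, hφ, hρc, hdet, ?_, ?_⟩
    · have := Basic.degree_pos φ
      omega
    · rw [hd, hk]
      exact dvd_mul_left _ _
  refine Or.inl (hI _ hdet fun g hg => ?_)
  refine MonoidHom.ext fun n => Units.ext ?_
  rw [cH_apply, Clifford.Rep.detHom_apply, Clifford.Rep.detHom_apply]
  let σ : Representation ℂ N (Fin k → ℂ) := ρ.comp (MulAut.conjNormal g).toMonoidHom
  have hσ : σ.character = ρ.character := funext fun n => by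
    have h1 := congrFun (show conjC N g (φ : N → ℂ) = (φ : N → ℂ) from hg) n
    rw [conjC_eq_comp, ← hρc] at h1
    exact h1
  exact Clifford.Rep.det_eq_of_char ρ σ hσ n

variable (hNG : N ≤ commutator G) (hd : Disc N)
include hNG hd

theorem len_ne_one {t : ℕ} (ht : t.Prime) {c : N →* ℂˣ} (hct : c ^ t = 1) (hc : c ≠ 1) :
    Main.len N c ≠ 1 := fun h => hd fun a ha b hb => by
  haveI := Fact.mk ht
  refine Main.conn_of_invariant N hNG hct hc (fun g => (inertia_L N c).mp ?_) ha hb
  rw [Subgroup.index_eq_one.mp h]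
  trivial

theorem sep {r : ℕ} (hr : r.Prime) (hrI : r ∣ (commutator N).index) {a b : ℕ}
    (hra : r ∣ a) (hrb : ¬ r ∣ b) : ¬ Main.Conn N a b := fun h => hd fun x hx y hy => by
  haveI := Fact.mk hr
  have key : ∀ z ∈ Cfsg.relCharDegrees N, Main.Conn N z a := fun z hz => by
    by_cases hrz : r ∣ z
    · exact Main.conn_of_dvd N hz h.1 hr.one_lt hrz hra
    · exact Main.conn_trans N (Main.conn_of_not_dvd N hNG hrI hz h.2.1 hrz hrb)
        (Main.conn_symm N h)
  exact Main.conn_trans N (key x hx) (Main.conn_symm N (key y hy))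

theorem exists_not_dvd {r : ℕ} (hr : r.Prime) :
    ∃ b ∈ Cfsg.relCharDegrees N, ¬ r ∣ b := by
  by_contra h
  push Not at h
  exact hd fun x hx y hy => Main.conn_of_dvd N hx hy hr.one_lt (h x hx) (h y hy)

theorem uniform {r s : ℕ} (hr : r.Prime) (hs : s.Prime) (hrI : r ∣ (commutator N).index)
    (hsI : s ∣ (commutator N).index) {a : ℕ} (ha : a ∈ Cfsg.relCharDegrees N) (hra : r ∣ a) :
    s ∣ a := by
  by_contra hsa
  haveI := Fact.mk hr
  haveI := Fact.mk hs
  obtain ⟨b, hb, hrb⟩ := exists_not_dvd N hNG hd hr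
  exact sep N hNG hd hr hrI hra hrb
    (Main.conn_symm N (Main.conn_of_not_dvd_two N hNG hrI hsI hb ha hrb hsa))

theorem shares {x : ℕ} (hx : x ≠ 1) {a b : ℕ} (ha : x ∣ a) (hb : x ∣ b) (ha0 : 0 < a) :
    1 < Nat.gcd a b := by
  have h := Nat.dvd_gcd ha hb
  rcases Nat.lt_trichotomy 1 (Nat.gcd a b) with h1 | h1 | h1
  · exact h1
  · rw [← h1] at h
    exact (hx (Nat.dvd_one.mp h)).elim
  · have : 0 < Nat.gcd a b := Nat.gcd_pos_of_pos_left _ ha0
    omega

theorem near_of_typeI {r : ℕ} (hr : r.Prime) (hrI : r ∣ (commutator N).index) {a b : ℕ}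
    (ha : a ∈ Cfsg.relCharDegrees N) (hb : b ∈ Cfsg.relCharDegrees N)
    (hra : ¬ r ∣ a) (hrb : ¬ r ∣ b) (h1 : TypeI N a) :
    (TypeI N b ∨ TypeII N b) →
      ∃ d ∈ Cfsg.relCharDegrees N, 1 < Nat.gcd a d ∧ 1 < Nat.gcd d b := by
  classical
  obtain ⟨t, c, ht, htI, hct, hc1, hca⟩ := h1
  have hlc := len_ne_one N hNG hd ht hct hc1
  have hapos := Main.pos_of_mem N ha
  have hbpos := Main.pos_of_mem N hb
  rintro (⟨t', c', ht', ht'I, hc't, hc'1, hcb⟩ | ⟨χ, φ, k, ρ, -, hφ, hρc, hdet, hk, hkb⟩)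
  · have hlc' := len_ne_one N hNG hd ht' hc't hc'1
    by_cases hco : (Main.len N c).Coprime (Main.len N c')
    swap
    · obtain ⟨q, hq, hq1, hq2⟩ := Nat.Prime.not_coprime_iff_dvd.mp hco
      refine ⟨a, ha, ?_, shares N hNG hd hq.ne_one (hq1.trans hca) (hq2.trans hcb) hapos⟩
      exact shares N hNG hd hlc hca hca hapos
    by_cases htt : t = t'
    · subst htt
      have hne : c * c' ≠ 1 := fun h => by
        apply hlc
        have hc'eq : c' = c⁻¹ := eq_inv_of_mul_eq_one_right (a := c) h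
        have : Main.len N c' = Main.len N c := by
          rw [Main.len, Main.len]
          congr 1
          ext g
          rw [inertia_L, inertia_L, hc'eq, map_inv]
          exact inv_inj (a := cH N g c) (b := c)
        rw [this] at hco
        exact (Nat.coprime_self _).mp hco
      obtain ⟨ψ, -, hD, hdvd⟩ := Main.exists_degree_over N (Main.lin_ne_one N hne)
      have hlen : Main.len N (c * c') ∣ Cfsg.charDegree (ψ : G → ℂ) :=
        (dvd_mul_right _ _).trans hdvd
      have h2 : ∀ x : ℕ, x ∈ Cfsg.relCharDegrees N → ¬ r ∣ x → ¬ t ∣ x := fun x hx hrx htx =>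
        hrx (uniform N hNG hd ht hr htI hrI hx htx)
      have hA := Basic.not_coprime_len_mul N ht hct hlc hco
        fun h => h2 b hb hrb (h.trans hcb)
      have hB := Basic.not_coprime_len_mul N ht hc't hlc' hco.symm
        fun h => h2 a ha hra (h.trans hca)
      obtain ⟨q, hq, hq1, hq2⟩ := Nat.Prime.not_coprime_iff_dvd.mp hA
      obtain ⟨q', hq', hq1', hq2'⟩ := Nat.Prime.not_coprime_iff_dvd.mp hB
      rw [mul_comm c' c] at hq1'
      exact ⟨_, hD, shares N hNG hd hq.ne_one (hq2.trans hca) (hq1.trans hlen) hapos,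
        shares N hNG hd hq'.ne_one (hq1'.trans hlen) (hq2'.trans hcb)
          (Main.pos_of_mem N hD)⟩
    · have hcop : t.Coprime t' := (Nat.coprime_primes ht ht').mpr htt
      have hle : inertia N (L N (c * c')) ≤ inertia N (L N c) ⊓ inertia N (L N c') := fun g hg => by
        rw [inertia_L] at hg
        obtain ⟨h1, h2⟩ := Basic.stab_mul_le N hcop hct hc't hg
        exact ⟨(inertia_L N c).mpr h1, (inertia_L N c').mpr h2⟩
      have hne : c * c' ≠ 1 := fun h => hlc (Main.index_inertia_of_invariant N fun g =>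
        (hle ((inertia_L N _).mpr (by rw [h, map_one]))).1)
      obtain ⟨ψ, -, hD, hdvd⟩ := Main.exists_degree_over N (Main.lin_ne_one N hne)
      have hall : Main.len N (c * c') ∣ Cfsg.charDegree (ψ : G → ℂ) :=
        (dvd_mul_right _ _).trans hdvd
      exact ⟨_, hD, shares N hNG hd hlc hca
          ((Subgroup.index_dvd_of_le (hle.trans inf_le_left)).trans hall) hapos,
        shares N hNG hd hlc'
          ((Subgroup.index_dvd_of_le (hle.trans inf_le_right)).trans hall) hcb
          (Main.pos_of_mem N hD)⟩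
  · have htk : t.Coprime k := (ht.coprime_iff_not_dvd).mpr fun h =>
      hrb (uniform N hNG hd ht hr htI hrI hb (h.trans hkb))
    have hfdeg : Cfsg.charDegree (φ : N → ℂ) = k := Basic.charDegree_eq N ρ hρc
    have hne : (mulL N c φ : N → ℂ) ≠ 1 := fun h => by
      have h1 := deg_mulL N c φ
      rw [h, hfdeg] at h1
      have h2 : Cfsg.charDegree (1 : N → ℂ) = 1 := by simp [Cfsg.charDegree]
      omega
    obtain ⟨ψ, -, hD, hdvd⟩ := Main.exists_degree_over N hne
    have hlen : Main.len N c ∣ (inertia N (mulL N c φ : N → ℂ)).index :=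
      Subgroup.index_dvd_of_le fun g hg =>
        (inertia_L N c).mpr (Basic.inertia_mulL_le N ρ hρc hdet hct htk hg).2
    rw [deg_mulL, hfdeg] at hdvd
    exact ⟨_, hD,
      shares N hNG hd hlc hca (hlen.trans ((dvd_mul_right _ k).trans hdvd)) hapos,
      shares N hNG hd hk.ne' ((dvd_mul_left k _).trans hdvd) hkb
        (Main.pos_of_mem N hD)⟩

/-- A prime dividing all the degrees of the second type prime to `r`. -/
theorem exists_common_prime [Group.IsSolvable N] {r : ℕ} (hr : r.Prime)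
    (hrI : r ∣ (commutator N).index) :
    ∃ s : ℕ, s.Prime ∧ ∀ a ∈ Cfsg.relCharDegrees N, ¬ r ∣ a → TypeII N a → s ∣ a := by
  classical
  obtain ⟨M, hM, hMN, hMfix, hnil⟩ := Residual.exists_residual N
  haveI := hM
  haveI hMs : (M.subgroupOf N).Normal := hM.subgroupOf N
  haveI := hnil hMs
  have hpi : ∀ q : ℕ, q.Prime → q ∣ Nat.card (↥N ⧸ M.subgroupOf N) →
      q ∣ (commutator N).index := fun q hq hqd => by
    refine (Residual.dvd_index_commutator hq hqd).trans ?_
    rw [← Subgroup.index_comap_of_surjective _ (QuotientGroup.mk'_surjective (M.subgroupOf N))]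
    refine Subgroup.index_dvd_of_le ?_
    rw [← Subgroup.map_le_iff_le_comap, commutator_def, Subgroup.map_commutator,
      Subgroup.map_top_of_surjective _ (QuotientGroup.mk'_surjective _), ← commutator_def]
  -- no degree of the second type is trivial on `M`
  have hmem : ∀ a ∈ Cfsg.relCharDegrees N, ¬ r ∣ a → TypeII N a →
      a ∈ Cfsg.relCharDegrees M := by
    rintro a ha hra ⟨χ, φ, k, ρ, rfl, hφ, hρc, -, hk, hka⟩
    refine ⟨χ, ?_, rfl⟩
    by_contra hcon
    push Not at hcon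
    have htriv : ∀ x ∈ M.subgroupOf N, (φ : N → ℂ) x = (φ : N → ℂ) 1 := by
      intro x hx
      by_contra hne
      apply hφ
      have hres := isCharacter_comp N.subtype (isCharacter_irr χ)
      obtain ⟨ψ, hψ, hψe, -⟩ := Cfsg.Agent.Lib.Characters.Kernel.exists_descend
        (M.subgroupOf N) hres fun y hy => by
          show (χ : G → ℂ) y = (χ : G → ℂ) ((1 : N) : G)
          rw [OneMemClass.coe_one]
          exact hcon y (Subgroup.mem_subgroupOf.mp hy)
      letI := Fintype.ofFinite (↥N ⧸ M.subgroupOf N)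
      have key : ∀ Θ : ↥N ⧸ M.subgroupOf N → ℂ, Cfsg.IsCharacter _ Θ →
          Cfsg.classInner (fun n : N => Θ n) (φ : N → ℂ) = 0 := by
        intro Θ hΘ
        refine character_induction (G := ↥N ⧸ M.subgroupOf N) (P := fun Θ =>
          Cfsg.classInner (fun n : N => Θ n) (φ : N → ℂ) = 0) ?_ ?_ hΘ
        · exact classInner_zero_left _
        · intro η Θ' _ ih
          refine (classInner_add_left (fun n : N => (η : ↥N ⧸ M.subgroupOf N → ℂ) n)
            (fun n : N => Θ' n) _).trans ?_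
          rw [ih, add_zero]
          let η' : Cfsg.IrrCharacter N :=
            ⟨_, Cfsg.Agent.Lib.Characters.Kernel.inflateEquiv (M.subgroupOf N) η |>.1.2⟩
          refine classInner_irr_of_ne (χ := η') fun heq => hne ?_
          have h2 := (Cfsg.Agent.Lib.Characters.Kernel.inflateEquiv (M.subgroupOf N) η).2 x hx
          rw [← heq]
          exact h2
      have h3 := key ψ hψ
      rw [← h3]
      congr 1
      exact (congrArg (fun f : N → ℂ => f) hψe).symm
    have hdiv := Residual.degree_dvd_of_trivial (M.subgroupOf N) φ htriv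
    rw [Basic.charDegree_eq N ρ hρc] at hdiv
    obtain ⟨q, hq, hqk⟩ := Nat.exists_prime_and_dvd hk.ne'
    exact hra (uniform N hNG hd hq hr (hpi q hq (hqk.trans hdiv)) hrI ha (hqk.trans hka))
  by_cases hMbot : M = ⊥
  · refine ⟨r, hr, fun a ha hra h2 => ?_⟩
    obtain ⟨χ, ⟨x, hx, hne⟩, -⟩ := hmem a ha hra h2
    rw [hMbot, Subgroup.mem_bot] at hx
    exact (hne (by rw [hx])).elim
  haveI : Nontrivial M := (Subgroup.nontrivial_iff_ne_bot M).mpr hMbot
  haveI : Group.IsSolvable M :=
    Group.isSolvable_of_isSolvable_injective (Subgroup.inclusion_injective hMN)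
  obtain ⟨s, hs, hsI⟩ : ∃ s : ℕ, s.Prime ∧ s ∣ (commutator M).index :=
    Nat.exists_prime_and_dvd fun h =>
      (Group.IsSolvable.commutator_lt_top_of_nontrivial M).ne (Subgroup.index_eq_one.mp h)
  refine ⟨s, hs, fun a ha hra h2 => ?_⟩
  by_contra hsa
  haveI := Fact.mk hs
  letI := Fintype.ofFinite M
  have haM := hmem a ha hra h2
  have hMG : M ≤ commutator G := hMN.trans hNG
  -- every nontrivial linear character of `M` has an orbit length meeting `|N : N'|`
  have hlenM : ∀ μ : M →* ℂˣ, μ ≠ 1 →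
      ∃ q : ℕ, q.Prime ∧ q ∣ (commutator N).index ∧ q ∣ Main.len M μ := by
    intro μ hμ
    set T := inertia M (L M μ) with hT
    have hMT : M ≤ T := le_inertia M (isClassFunction_irr (lin M μ))
    have hrel : T.relIndex N ≠ 1 := fun h1 => by
      apply hμ
      have hNT : N ≤ T := Subgroup.relIndex_eq_one.mp h1
      refine MonoidHom.ext fun m => ?_
      suffices h : M ≤ μ.ker.map M.subtype by
        obtain ⟨m', hm', hmm⟩ := h m.2
        rw [← Subtype.ext (a1 := m') (a2 := m) hmm]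
        exact hm'
      conv_lhs => rw [← hMfix]
      rw [Subgroup.commutator_le]
      intro n hn m hm
      refine ⟨⟨n * m * n⁻¹ * m⁻¹, ?_⟩, ?_, rfl⟩
      · rw [← hMfix]
        exact Subgroup.commutator_mem_commutator hn hm
      · show μ _ = 1
        have h2 : cH M n μ ⟨m, hm⟩ = μ ⟨m, hm⟩ := by rw [(inertia_L M μ).mp (hNT hn)]
        rw [cH_apply] at h2
        have h3 : (⟨n * m * n⁻¹ * m⁻¹, by rw [← hMfix]; exact Subgroup.commutator_mem_commutator hn hm⟩ : M) =
            ⟨n * m * n⁻¹, hM.conj_mem m hm n⟩ * (⟨m, hm⟩ : M)⁻¹ := Subtype.ext rfl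
        rw [h3, map_mul, map_inv, h2, mul_inv_cancel]
    obtain ⟨q, hq, hqd⟩ := Nat.exists_prime_and_dvd hrel
    refine ⟨q, hq, hpi q hq ?_, hqd.trans ?_⟩
    · refine hqd.trans ((Subgroup.relIndex_dvd_of_le_left N hMT).trans ?_)
      exact dvd_of_eq (Subgroup.index_eq_card (M.subgroupOf N))
    · show T.relIndex N ∣ T.index
      have h4 : (T ⊓ N).index = N.relIndex T * T.index := by
        rw [← Subgroup.inf_relIndex_left T N, Subgroup.relIndex_mul_index inf_le_left]
      have h5 : (T ⊓ N).index = T.relIndex N * N.index := by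
        rw [← Subgroup.inf_relIndex_right T N, Subgroup.relIndex_mul_index inf_le_right]
      obtain ⟨j, hj⟩ := Subgroup.relIndex_dvd_index_of_normal N T
      refine ⟨j, ?_⟩
      have h0 : N.relIndex T ≠ 0 := fun h => Subgroup.index_ne_zero_of_finite (H := N.subgroupOf T) h
      apply Nat.eq_of_mul_eq_mul_left (Nat.pos_of_ne_zero h0)
      rw [← h4, h5, hj]
      ring
  -- transfer connectedness from `M` to `N`
  have hsub : Cfsg.relCharDegrees M ⊆ Cfsg.relCharDegrees N := by
    rintro x ⟨χ, ⟨m, hm, hne⟩, rfl⟩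
    exact ⟨χ, ⟨m, hMN hm, hne⟩, rfl⟩
  have hconn : ∀ x y, Main.Conn M x y → Main.Conn N x y := by
    rintro x y ⟨hx, hy, hxy⟩
    exact ⟨hsub hx, hsub hy, hxy.map
      (⟨fun v => ⟨v.1, hsub v.2⟩, fun h => h⟩ :
        Cfsg.commonDivisorGraph.induce (Cfsg.relCharDegrees M) →g
          Cfsg.commonDivisorGraph.induce (Cfsg.relCharDegrees N))⟩
  have hfinish : ∀ (μ : M →* ℂˣ) (d : ℕ), μ ≠ 1 → Main.len M μ ∣ d → Main.Conn M a d →
      False := fun μ d hμ hdvd hc => by
    obtain ⟨q, hq, hqI, hqlen⟩ := hlenM μ hμ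
    have hc' := hconn _ _ hc
    exact sep N hNG hd hr hrI (uniform N hNG hd hq hr hqI hrI hc'.2.1 (hqlen.trans hdvd)) hra
      (Main.conn_symm N hc')
  rcases Main.connected_or_good M s hMG hsI with h | ⟨B, hB⟩
  · haveI : Finite (M →* ℂˣ) :=
      Finite.of_injective (lin M) fun x y h => L_injective M (congrArg Subtype.val h)
    obtain ⟨μ, hμ⟩ := exists_prime_orderOf_dvd_card' (G := M →* ℂˣ) s (by
      rwa [Nat.card_congr (Cfsg.Agent.Lib.Characters.Linear.linEquiv M),
        Cfsg.Agent.Lib.Characters.Linear.card_linear])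
    have hμ1 : μ ≠ 1 := fun h1 => hs.ne_one (by rw [← hμ, h1, orderOf_one])
    obtain ⟨ψ, -, hD, hdvd⟩ := Main.exists_degree_over M (Main.lin_ne_one M hμ1)
    exact hfinish μ _ hμ1 ((dvd_mul_right _ _).trans hdvd) (h a haM _ hD)
  · obtain ⟨μ, -, hμ1, d, hdvd, hc⟩ := Main.conn_len_of_not_dvd M hMG hB haM hsa
    exact hfinish μ d hμ1 hdvd hc

/-- Two degrees prime to `r` have a common neighbour. -/
theorem near [Group.IsSolvable N] {r : ℕ} (hr : r.Prime) (hrI : r ∣ (commutator N).index)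
    {a b : ℕ} (ha : a ∈ Cfsg.relCharDegrees N) (hb : b ∈ Cfsg.relCharDegrees N)
    (hra : ¬ r ∣ a) (hrb : ¬ r ∣ b) :
    ∃ d ∈ Cfsg.relCharDegrees N, 1 < Nat.gcd a d ∧ 1 < Nat.gcd d b := by
  rcases type_cases N ha with h1 | h1
  · exact near_of_typeI N hNG hd hr hrI ha hb hra hrb h1 (type_cases N hb)
  rcases type_cases N hb with h2 | h2
  · obtain ⟨d, hD, hd1, hd2⟩ := near_of_typeI N hNG hd hr hrI hb ha hrb hra h2 (Or.inr h1)
    exact ⟨d, hD, by rwa [Nat.gcd_comm], by rwa [Nat.gcd_comm]⟩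
  obtain ⟨s, hs, hall⟩ := exists_common_prime N hNG hd hr hrI
  exact ⟨a, ha, shares N hNG hd hs.ne_one (hall a ha hra h1) (hall a ha hra h1)
      (Main.pos_of_mem N ha),
    shares N hNG hd hs.ne_one (hall a ha hra h1) (hall b hb hrb h2)
      (Main.pos_of_mem N ha)⟩

end Cfsg.Agent.Lib.RelDegrees78.Disconnected
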